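import Groth.Agent.LimTop.PullSec
import Groth.Agent.Props.QRank
import Groth.Agent.QCoh.FiniteType
import Groth.Agent.QCoh.Exact
import Groth.Agent.VBLib.Basic
import Groth.Prelude.Def_FlatMod2
import Mathlib.AlgebraicGeometry.Morphisms.Immersion

/-!
# The locus where a quasi-coherent module of finite type is locally free of given rank

For a quasi-coherent module `F` of finite type on a scheme `X` and `r : ℕ` there is an immersion
`Z ⟶ X` through which `f : T ⟶ X` factors iff `f^* F` is locally free of rank `r`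
(`exists_immersion`).
-/

set_option autoImplicit false
set_option linter.style.haveILetI false

universe u

open CategoryTheory CategoryTheory.Limits AlgebraicGeometry TopologicalSpace Opposite

noncomputable section

namespace Groth.Agent.RankLocus

open Groth.Agent.Props Groth.Agent.PullStalk.Sky

variable {X T : Scheme.{u}}

/-- `f` kills the coefficients of every relation among `r` generators of `F` on an affine open. -/
def Kills (F : X.Modules) (r : ℕ) (f : T ⟶ X) : Prop :=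
  ∀ (W : X.affineOpens) (m : Fin r → Γ(F, W.1)), Submodule.span Γ(X, W.1) (Set.range m) = ⊤ →
    ∀ k : Fin r → Γ(X, W.1), ∑ i, k i • m i = 0 → ∀ i, f.app W.1 (k i) = 0

theorem isFinLocFreeOfRank_of_iso {M N : X.Modules} (e : M ≅ N) {r : ℕ}
    (h : FlatMod.IsFinLocFreeOfRank r M) : FlatMod.IsFinLocFreeOfRank r N := fun x => by
  obtain ⟨U, hx, ⟨φ⟩⟩ := h x
  exact ⟨U, hx, ⟨((Scheme.Modules.restrictFunctor U.ι).mapIso e).symm ≪≫ φ⟩⟩

/-- Images of generators generate the sections of the pullback over affine opens. -/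
theorem span_unitSec (f : T ⟶ X) (F : X.Modules) [F.IsQuasicoherent] {W : X.Opens}
    (hW : IsAffineOpen W) {U : T.Opens} (hU : IsAffineOpen U) (h : U ≤ f ⁻¹ᵁ W) {ι : Type*}
    (m : ι → Γ(F, W)) (hm : Submodule.span Γ(X, W) (Set.range m) = ⊤) :
    Submodule.span Γ(T, U) (Set.range fun i => LimTop.unitSec f F h (m i)) = ⊤ := by
  letI := (f.appLE W U h).hom.toAlgebra
  letI := LimTop.secModule f F h
  haveI : IsScalarTower Γ(X, W) Γ(T, U) Γ((Scheme.Modules.pullback f).obj F, U) :=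
    IsScalarTower.of_algebraMap_smul fun _ _ => rfl
  have hbc := LimTop.isBaseChange_unitSec f F h hW hU
  set S := Submodule.span Γ(T, U) (Set.range fun i => LimTop.unitSec f F h (m i))
  rw [eq_top_iff]
  intro y _
  refine hbc.inductionOn y (fun y => y ∈ S) (zero_mem _) (fun s => ?_)
    (fun b n hn => S.smul_mem b hn) (fun a b => add_mem)
  have hs : s ∈ Submodule.span Γ(X, W) (Set.range m) := hm ▸ Submodule.mem_top
  change LimTop.unitSec f F h s ∈ S
  induction hs using Submodule.span_induction with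
  | mem z hz =>
    obtain ⟨i, rfl⟩ := hz
    exact Submodule.subset_span ⟨i, rfl⟩
  | zero => rw [map_zero]; exact zero_mem _
  | add a b _ _ ha hb => rw [map_add]; exact add_mem ha hb
  | smul c a _ ha => rw [LimTop.unitSec_smul]; exact S.smul_mem _ ha

/-- Stalks of a module locally free of rank `r` are free of rank `r`. -/
theorem free_finrank_stalk {N : T.Modules} [N.IsQuasicoherent] {r : ℕ}
    (h : FlatMod.IsFinLocFreeOfRank r N) (t : T) :
    Module.Free (T.presheaf.stalk t) (N.presheaf.stalk t) ∧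
      Module.finrank (T.presheaf.stalk t) (N.presheaf.stalk t) = r := by
  obtain ⟨V, htV, ⟨e⟩⟩ := h t
  obtain ⟨_, ⟨W, hW, rfl⟩, htW, hWV⟩ := T.isBasis_affineOpens.exists_subset_of_mem_open htV V.2
  obtain ⟨b⟩ := QProj.free_sections_of_restrict_iso N e hW hWV
  letI := QStalk.moduleSections N htW
  letI := T.presheaf.algebra_section_stalk ⟨t, htW⟩
  haveI : IsScalarTower Γ(T, W) (T.presheaf.stalk t) (N.presheaf.stalk t) :=
    IsScalarTower.of_algebraMap_smul fun _ _ ↦ rfl
  haveI := QStalk.isLocalizedModule_germLin N htW hW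
  haveI : IsLocalization.AtPrime (T.presheaf.stalk t) (hW.primeIdealOf ⟨t, htW⟩).asIdeal :=
    hW.isLocalization_stalk ⟨t, htW⟩
  let b' := b.ofIsLocalizedModule (T.presheaf.stalk t)
    (hW.primeIdealOf ⟨t, htW⟩).asIdeal.primeCompl (QStalk.germLin N htW)
  exact ⟨Module.Free.of_basis b',
    (Module.finrank_eq_card_basis b').trans (Fintype.card_fin r)⟩

/-- If `f^* F` is locally free of rank `r` then `f` kills all relations among `r` generators. -/
theorem kills_of_locFree {F : X.Modules} [F.IsQuasicoherent] {r : ℕ} {f : T ⟶ X}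
    (h : FlatMod.IsFinLocFreeOfRank r ((Scheme.Modules.pullback f).obj F)) : Kills F r f := by
  intro W m hm k hk i
  refine TopCat.Presheaf.section_ext T.sheaf (f ⁻¹ᵁ W.1) _ 0 fun t ht => ?_
  obtain ⟨_, ⟨U, hU, rfl⟩, htU, hUW⟩ :=
    T.isBasis_affineOpens.exists_subset_of_mem_open ht (f ⁻¹ᵁ W.1).2
  replace hUW : U ≤ f ⁻¹ᵁ W.1 := hUW
  have hs := span_unitSec f F W.2 hU hUW m hm
  obtain ⟨b⟩ := QRank.basis_of_free_stalks ((Scheme.Modules.pullback f).obj F) hU _ hs
    (fun y _ => free_finrank_stalk h y)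
  let φ := Fintype.linearCombination Γ(T, U) (fun j => LimTop.unitSec f F hUW (m j))
  have hsurj : Function.Surjective φ := by
    rw [← LinearMap.range_eq_top, Fintype.range_linearCombination]
    exact hs
  have hinj : Function.Injective φ := fun a c hac =>
    OrzechProperty.injective_of_surjective_endomorphism (b.equivFun.toLinearMap ∘ₗ φ)
      (b.equivFun.surjective.comp hsurj) (congrArg b.equivFun hac)
  have h0 : φ (fun j => f.appLE W.1 U hUW (k j)) = φ 0 := by
    rw [map_zero, Fintype.linearCombination_apply]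
    simp only [← LimTop.unitSec_smul]
    rw [← map_sum, hk, map_zero]
  have hki : f.appLE W.1 U hUW (k i) = 0 := congrFun (hinj h0) i
  change T.presheaf.germ (f ⁻¹ᵁ W.1) t ht (f.app W.1 (k i)) =
    T.presheaf.germ (f ⁻¹ᵁ W.1) t ht 0
  rw [map_zero, ← T.presheaf.germ_res_apply (homOfLE hUW) t htU]
  rw [Scheme.Hom.appLE, CommRingCat.comp_apply] at hki
  exact (congrArg (T.presheaf.germ U t htU) hki).trans (map_zero _)

/-- If locally `r` generators exist whose relations are killed by `f`, then `f^* F` is locally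
free of rank `r`. -/
theorem locFree_of_local {F : X.Modules} [F.IsQuasicoherent] {r : ℕ} {f : T ⟶ X}
    (H : ∀ t : T, ∃ (W : X.affineOpens) (m : Fin r → Γ(F, W.1)), f t ∈ W.1 ∧
      Submodule.span Γ(X, W.1) (Set.range m) = ⊤ ∧
      ∀ k : Fin r → Γ(X, W.1), ∑ i, k i • m i = 0 → ∀ i, f.app W.1 (k i) = 0) :
    FlatMod.IsFinLocFreeOfRank r ((Scheme.Modules.pullback f).obj F) := by
  intro t
  obtain ⟨W, m, htW, hm, hkill⟩ := H t
  obtain ⟨_, ⟨U, hU, rfl⟩, htU, hUW⟩ :=
    T.isBasis_affineOpens.exists_subset_of_mem_open (show t ∈ f ⁻¹ᵁ W.1 from htW) (f ⁻¹ᵁ W.1).2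
  replace hUW : U ≤ f ⁻¹ᵁ W.1 := hUW
  have hs := span_unitSec f F W.2 hU hUW m hm
  letI := (f.appLE W.1 U hUW).hom.toAlgebra
  letI := LimTop.secModule f F hUW
  haveI : IsScalarTower Γ(X, W.1) Γ(T, U) Γ((Scheme.Modules.pullback f).obj F, U) :=
    IsScalarTower.of_algebraMap_smul fun _ _ => rfl
  have hbc := LimTop.isBaseChange_unitSec f F hUW W.2 hU
  let π := Fintype.linearCombination Γ(X, W.1) m
  have hπ : Function.Surjective π := by
    rw [← LinearMap.range_eq_top, Fintype.range_linearCombination]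
    exact hm
  let e : (Fin r → Γ(X, W.1)) →ₗ[Γ(X, W.1)] (Fin r → Γ(T, U)) :=
    (Algebra.linearMap Γ(X, W.1) Γ(T, U)).compLeft (Fin r)
  have hker : LinearMap.ker π ≤ LinearMap.ker e := by
    intro k hk
    rw [LinearMap.mem_ker, Fintype.linearCombination_apply] at hk
    rw [LinearMap.mem_ker]
    funext i
    change f.appLE W.1 U hUW (k i) = 0
    rw [Scheme.Hom.appLE, CommRingCat.comp_apply, hkill k hk i, map_zero]
  let σ : Γ(F, W.1) →ₗ[Γ(X, W.1)] (Fin r → Γ(T, U)) :=
    (Submodule.liftQ _ e hker).comp (π.quotKerEquivOfSurjective hπ).symm.toLinearMap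
  have hσ : ∀ k, σ (π k) = e k := fun k => by
    simp only [σ, LinearMap.comp_apply, LinearEquiv.coe_coe,
      LinearMap.quotKerEquivOfSurjective_symm_apply, Submodule.liftQ_apply]
  let ρ := hbc.lift σ
  let φ := Fintype.linearCombination Γ(T, U) (fun j => LimTop.unitSec f F hUW (m j))
  have hρφ : ρ ∘ₗ φ = LinearMap.id := by
    refine LinearMap.pi_ext' fun j => LinearMap.ext_ring ?_
    simp only [LinearMap.comp_apply, LinearMap.id_comp, LinearMap.coe_single]
    rw [show φ (Pi.single j 1) = LimTop.unitSecLin f F hUW (m j) by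
      simp [φ, Fintype.linearCombination_apply_single]; rfl]
    rw [show ρ (LimTop.unitSecLin f F hUW (m j)) = σ (m j) from hbc.lift_eq σ (m j),
      show m j = π (Pi.single j 1) by simp [π, Fintype.linearCombination_apply_single], hσ]
    funext i
    change f.appLE W.1 U hUW ((Pi.single j 1 : Fin r → Γ(X, W.1)) i) =
      (Pi.single j 1 : Fin r → Γ(T, U)) i
    by_cases hij : i = j
    · subst hij; simp
    · simp [Pi.single_eq_of_ne hij]
  have hsurj : Function.Surjective φ := by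
    rw [← LinearMap.range_eq_top, Fintype.range_linearCombination]
    exact hs
  have hinj : Function.Injective φ := fun a c hac => by
    have := congrArg ρ hac
    rwa [← LinearMap.comp_apply, ← LinearMap.comp_apply, hρφ] at this
  let b := Module.Basis.ofEquivFun (LinearEquiv.ofBijective φ ⟨hinj, hsurj⟩).symm
  obtain ⟨n, ⟨iso⟩⟩ := QProj.nonempty_restrict_iso_free ((Scheme.Modules.pullback f).obj F) hU b
  obtain ⟨b'⟩ := QProj.free_sections_of_restrict_iso ((Scheme.Modules.pullback f).obj F) iso hU le_rfl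
  haveI : Nonempty U := ⟨⟨t, htU⟩⟩
  obtain rfl : n = r := Fin.equiv_iff_eq.mp ⟨b'.indexEquiv b⟩
  exact ⟨U, htU, ⟨iso⟩⟩

/-- The fibre rank of a pullback. -/
theorem fibreRank_pullback (f : T ⟶ X) (F : X.Modules) (t : T) :
    QRank.fibreRank ((Scheme.Modules.pullback f).obj F) t = QRank.fibreRank F (f t) := by
  letI := (f.stalkMap t).hom.toAlgebra
  letI := PullStalk.Basic.moduleOver f F t
  haveI : IsScalarTower (X.presheaf.stalk (f t)) (T.presheaf.stalk t)
      (((Scheme.Modules.pullback f).obj F).presheaf.stalk t) :=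
    IsScalarTower.of_algebraMap_smul fun _ _ => rfl
  have hbc := PullStalk.Basic.isBaseChange_unitStalk f F t
  let A := X.presheaf.stalk (f t)
  let A' := T.presheaf.stalk t
  let κ := IsLocalRing.ResidueField A
  let κ' := IsLocalRing.ResidueField A'
  letI : Algebra κ κ' := (IsLocalRing.ResidueField.map (f.stalkMap t).hom).toAlgebra
  haveI : IsScalarTower A κ κ' := IsScalarTower.of_algebraMap_eq fun a => rfl
  let e := TensorProduct.AlgebraTensorModule.congr (LinearEquiv.refl κ' κ') hbc.equiv.symm ≪≫ₗ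
    TensorProduct.AlgebraTensorModule.cancelBaseChange A A' κ' κ' (F.presheaf.stalk (f t)) ≪≫ₗ
    (TensorProduct.AlgebraTensorModule.cancelBaseChange A κ κ' κ' (F.presheaf.stalk (f t))).symm
  unfold QRank.fibreRank
  exact (LinearEquiv.finrank_eq e).trans Module.finrank_baseChange

/-- The open locus where `F` is generated by `r` sections. -/
def genLocus (F : X.Modules) (r : ℕ) : X.Opens :=
  ⨆ (W : X.affineOpens) (_ : ∃ m : Fin r → Γ(F, W.1),
    Submodule.span Γ(X, W.1) (Set.range m) = ⊤), W.1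

theorem mem_genLocus {F : X.Modules} {r : ℕ} {x : X} :
    x ∈ genLocus F r ↔ ∃ (W : X.affineOpens) (m : Fin r → Γ(F, W.1)),
      x ∈ W.1 ∧ Submodule.span Γ(X, W.1) (Set.range m) = ⊤ := by
  simp only [genLocus, Opens.mem_iSup]
  exact ⟨fun ⟨W, ⟨m, hm⟩, hx⟩ => ⟨W, m, hx, hm⟩, fun ⟨W, m, hx, hm⟩ => ⟨W, ⟨m, hm⟩, hx⟩⟩

theorem mem_genLocus_of_fibreRank_le {F : X.Modules} [F.IsQuasicoherent] (hF : CohB1.IsFT F)
    {r : ℕ} {x : X} (hx : QRank.fibreRank F x ≤ r) : x ∈ genLocus F r := by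
  classical
  obtain ⟨U, hU, hxU, -⟩ := exists_isAffineOpen_mem_and_subset (X := X) (Opens.mem_top x)
  haveI : SheafOfModules.IsFiniteType.{u} F := hF
  haveI := QCoh.finite_sections_of_isFiniteType F hU
  obtain ⟨g, hxg, -, m, hm⟩ := QRank.exists_generators F hU hxU (O := ⊤) trivial
  refine mem_genLocus.2 ⟨⟨X.basicOpen g, hU.basicOpen g⟩,
    fun i => if h : i.1 < QRank.fibreRank F x then m ⟨i, h⟩ else 0, hxg, ?_⟩
  rw [eq_top_iff, ← hm]
  refine Submodule.span_mono ?_
  rintro _ ⟨i, rfl⟩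
  exact ⟨Fin.castLE hx i, by simp⟩

theorem mem_genLocus_of_locFree {F : X.Modules} [F.IsQuasicoherent] (hF : CohB1.IsFT F) {r : ℕ}
    {f : T ⟶ X} (h : FlatMod.IsFinLocFreeOfRank r ((Scheme.Modules.pullback f).obj F)) (t : T) :
    f t ∈ genLocus F r := by
  obtain ⟨hfree, hr⟩ := free_finrank_stalk h t
  refine mem_genLocus_of_fibreRank_le hF ?_
  rw [← fibreRank_pullback, QRank.fibreRank_eq_of_free, hr]

/-- The composite of a map of spectra with `fromSpec`, on sections. -/
theorem specMap_fromSpec_appLE {U : X.Opens} (hU : IsAffineOpen U) {S : CommRingCat.{u}}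
    (q : Γ(X, U) ⟶ S) (V : X.Opens) (h : U ≤ V)
    (e : (⊤ : (Spec S).Opens) ≤ (Spec.map q ≫ hU.fromSpec) ⁻¹ᵁ V) :
    (Spec.map q ≫ hU.fromSpec).appLE V ⊤ e =
      X.presheaf.map (homOfLE h).op ≫ q ≫ (Scheme.ΓSpecIso S).inv := by
  have h1 : (⊤ : (Spec Γ(X, U)).Opens) ≤ hU.fromSpec ⁻¹ᵁ V := fun x _ =>
    h (hU.range_fromSpec.le ⟨x, rfl⟩)
  rw [← Scheme.Hom.appLE_comp_appLE _ _ V ⊤ ⊤ h1 (by simp), Scheme.Hom.appLE,
    hU.fromSpec_app_of_le V h]
  simp only [Category.assoc]
  congr 1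
  rw [← Functor.map_comp_assoc]
  rw [show (Spec.map q).appLE ⊤ ⊤ (by simp) = (Spec.map q).appTop from
    (Scheme.Hom.app_eq_appLE (f := Spec.map q) (U := ⊤)).symm]
  rw [show ((homOfLE le_top).op ≫ (homOfLE h1).op : op (⊤ : (Spec Γ(X, U)).Opens) ⟶ op ⊤) =
    𝟙 _ from rfl, CategoryTheory.Functor.map_id, Category.id_comp]
  exact (Scheme.ΓSpecIso_inv_naturality q).symm

lemma app_eq_zero_iff {f : T ⟶ X} {V : X.Opens} (e : (⊤ : T.Opens) ≤ f ⁻¹ᵁ V) (a : Γ(X, V)) :
    f.app V a = 0 ↔ f.appLE V ⊤ e a = 0 := by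
  rw [Scheme.Hom.appLE, CommRingCat.comp_apply]
  refine ⟨fun h => by rw [h, map_zero], fun h => ?_⟩
  have := congrArg (T.presheaf.map (homOfLE (le_top : f ⁻¹ᵁ V ≤ ⊤)).op) h
  rwa [map_zero, ← CommRingCat.comp_apply, ← Functor.map_comp,
    show (homOfLE e).op ≫ (homOfLE (le_top : f ⁻¹ᵁ V ≤ ⊤)).op = 𝟙 _ from rfl,
    CategoryTheory.Functor.map_id] at this

lemma app_res_eq_zero (f : T ⟶ X) {U V : X.Opens} (h : V ≤ U) {a : Γ(X, U)}
    (ha : f.app U a = 0) : f.app V (X.presheaf.map (homOfLE h).op a) = 0 := by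
  rw [← CommRingCat.comp_apply, f.naturality, CommRingCat.comp_apply, ha, map_zero]

section Closed

variable (F : X.Modules) (r : ℕ)

/-- The ideal of sections killed by every morphism killing the relations. -/
def killIdeal (U : X.Opens) : Ideal Γ(X, U) :=
  ⨅ (T : Scheme.{u}) (f : T ⟶ X) (_ : Kills F r f), RingHom.ker (f.app U).hom

theorem mem_killIdeal {U : X.Opens} {a : Γ(X, U)} :
    a ∈ killIdeal F r U ↔ ∀ (T : Scheme.{u}) (f : T ⟶ X), Kills F r f → f.app U a = 0 := by
  simp only [killIdeal, Submodule.mem_iInf, RingHom.mem_ker]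

variable [F.IsQuasicoherent]

/-- A multiple of `a` by a power of `g` lies in the ideal, near a generated affine open. -/
theorem exists_pow_mul_mem (U : X.Opens) (g : Γ(X, U)) (a : Γ(X, U)) {D : X.Opens}
    (hD : IsAffineOpen D) (hDU : D ≤ U) (m : Fin r → Γ(F, D))
    (hm : Submodule.span Γ(X, D) (Set.range m) = ⊤)
    (ha : X.presheaf.map (homOfLE (X.basicOpen_le g)).op a ∈ killIdeal F r (X.basicOpen g)) :
    ∃ n : ℕ, ∀ (T : Scheme.{u}) (f : T ⟶ X), Kills F r f →
      f.app D (X.presheaf.map (homOfLE hDU).op (g ^ n * a)) = 0 := by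
  let ρ := (X.presheaf.map (homOfLE hDU).op).hom
  let gD := ρ g
  let D' := X.basicOpen gD
  have hD'D : D' ≤ D := X.basicOpen_le gD
  have hD'g : D' ≤ X.basicOpen g :=
    (Scheme.basicOpen_res X g (homOfLE hDU).op).le.trans inf_le_right
  have hD' : IsAffineOpen D' := hD.basicOpen gD
  let ID : Ideal Γ(X, D) :=
    Ideal.span {c | ∃ k : Fin r → Γ(X, D), ∑ i, k i • m i = 0 ∧ ∃ i, c = k i}
  let K : Ideal Γ(X, D') := ID.map (X.presheaf.map (homOfLE hD'D).op).hom
  let q : Γ(X, D') ⟶ CommRingCat.of (Γ(X, D') ⧸ K) := CommRingCat.ofHom (Ideal.Quotient.mk K)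
  let f₀ := Spec.map q ≫ hD'.fromSpec
  have hrange : ∀ t, f₀ t ∈ D' := fun t => hD'.range_fromSpec.le ⟨_, rfl⟩
  have eV : ∀ {V : X.Opens}, D' ≤ V → (⊤ : (Spec (CommRingCat.of (Γ(X, D') ⧸ K))).Opens) ≤
      f₀ ⁻¹ᵁ V := fun h t _ => h (hrange t)
  have hzero : ∀ (V : X.Opens) (h : D' ≤ V) (c : Γ(X, V)),
      f₀.app V c = 0 ↔ X.presheaf.map (homOfLE h).op c ∈ K := fun V h c => by
    rw [app_eq_zero_iff (eV h), specMap_fromSpec_appLE hD' q V h, CommRingCat.comp_apply,
      CommRingCat.comp_apply, map_eq_zero_iff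
        (Scheme.ΓSpecIso (CommRingCat.of (Γ(X, D') ⧸ K))).inv.hom
        (ConcreteCategory.bijective_of_isIso
          (Scheme.ΓSpecIso (CommRingCat.of (Γ(X, D') ⧸ K))).inv).1]
    exact Ideal.Quotient.eq_zero_iff_mem
  have hf₀ : Kills F r f₀ := kills_of_locFree (locFree_of_local fun t =>
    ⟨⟨D, hD⟩, m, hD'D (hrange t), hm, fun k hk i =>
      (hzero D hD'D _).2 (Ideal.mem_map_of_mem _ (Ideal.subset_span ⟨k, hk, i, rfl⟩))⟩)
  have haK := (hzero _ hD'g _).1 ((mem_killIdeal F r).1 ha _ f₀ hf₀)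
  rw [← CommRingCat.comp_apply, ← Functor.map_comp] at haK
  replace haK : X.presheaf.map (homOfLE hD'D).op (ρ a) ∈ K := by
    rw [← CommRingCat.comp_apply, ← Functor.map_comp]
    exact haK
  letI : Algebra Γ(X, D) Γ(X, D') := (X.presheaf.map (homOfLE hD'D).op).hom.toAlgebra
  haveI : IsLocalization.Away gD Γ(X, D') := hD.isLocalization_basicOpen gD
  obtain ⟨⟨⟨c, hc⟩, ⟨_, n, rfl⟩⟩, he⟩ :=
    (IsLocalization.mem_map_algebraMap_iff (Submonoid.powers gD) Γ(X, D')).1 haK
  change algebraMap _ _ (ρ a) * algebraMap _ _ (gD ^ n) = algebraMap _ _ c at he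
  rw [← map_mul] at he
  obtain ⟨⟨_, p, rfl⟩, hp⟩ := (IsLocalization.eq_iff_exists (Submonoid.powers gD) Γ(X, D')).1 he
  refine ⟨p + n, fun T f hf => ?_⟩
  have hmem : ρ (g ^ (p + n) * a) ∈ ID := by
    have h1 : gD ^ p * (ρ a * gD ^ n) = gD ^ p * c := hp
    have h2 : ρ (g ^ (p + n) * a) = gD ^ p * (ρ a * gD ^ n) := by
      rw [map_mul, map_pow, pow_add]; ring
    rw [h2, h1]
    exact ID.mul_mem_left _ hc
  have hle : ID ≤ RingHom.ker (f.app D).hom := Ideal.span_le.2 (by
    rintro _ ⟨k, hk, i, rfl⟩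
    exact hf ⟨D, hD⟩ m hm k hk i)
  exact hle hmem

/-- Affine opens with `r` generators, small around any point. -/
theorem exists_small_gen {x : X} (hgen : x ∈ genLocus F r) {U : X.Opens} (hU : IsAffineOpen U)
    (hx : x ∈ U) : ∃ D : X.Opens, IsAffineOpen D ∧ x ∈ D ∧ D ≤ U ∧
      ∃ m : Fin r → Γ(F, D), Submodule.span Γ(X, D) (Set.range m) = ⊤ := by
  obtain ⟨W, m, hxW, hm⟩ := mem_genLocus.1 hgen
  obtain ⟨h, h', heq, hxh⟩ := exists_basicOpen_le_affine_inter hU W.2 x ⟨hx, hxW⟩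
  refine ⟨X.basicOpen h', W.2.basicOpen h', heq ▸ hxh, heq ▸ X.basicOpen_le h,
    fun i => QStalk.resLin F h' (m i), ?_⟩
  haveI : Fact (IsAffineOpen W.1) := ⟨W.2⟩
  haveI := W.2.isLocalization_basicOpen h'
  have := span_eq_top_of_isLocalizedModule Γ(X, X.basicOpen h') (Submonoid.powers h')
    (QStalk.resLin F h') hm
  rwa [← Set.range_comp] at this

variable (hgen : genLocus F r = ⊤)
include hgen

theorem exists_pow_mul_mem_killIdeal {U : X.Opens} (hU : IsAffineOpen U) (g a : Γ(X, U))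
    (ha : X.presheaf.map (homOfLE (X.basicOpen_le g)).op a ∈ killIdeal F r (X.basicOpen g)) :
    ∃ n : ℕ, g ^ n * a ∈ killIdeal F r U := by
  classical
  choose D hD hxD hDU m hm using fun x : U =>
    exists_small_gen F r (x := x.1) (by rw [hgen]; trivial) hU x.2
  choose n hn using fun x : U => exists_pow_mul_mem F r U g a (hD x) (hDU x) (m x) (hm x) ha
  obtain ⟨s, hs⟩ := hU.isCompact.elim_finite_subcover (fun x : U => (D x : Set X))
    (fun x => (D x).2) (fun x hx => Set.mem_iUnion.2 ⟨⟨x, hx⟩, hxD _⟩)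
  refine ⟨s.sup n, (mem_killIdeal F r).2 fun T f hf => ?_⟩
  refine TopCat.Presheaf.section_ext T.sheaf (f ⁻¹ᵁ U) _ 0 fun t ht => ?_
  obtain ⟨x, hxs, htD⟩ : ∃ x ∈ s, f t ∈ D x := by simpa using hs ht
  change T.presheaf.germ (f ⁻¹ᵁ U) t ht (f.app U (g ^ s.sup n * a)) =
    T.presheaf.germ (f ⁻¹ᵁ U) t ht 0
  rw [map_zero, ← T.presheaf.germ_res_apply (homOfLE (f.preimage_mono (hDU x))) t htD]
  refine (congrArg (T.presheaf.germ _ t htD) ?_).trans (map_zero _)
  have hle := Finset.le_sup (f := n) hxs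
  rw [← Nat.sub_add_cancel hle, pow_add, mul_assoc, map_mul, map_mul]
  refine mul_eq_zero_of_right _ ?_
  refine Eq.trans ?_ (hn x T f hf)
  exact (congr($(f.naturality (homOfLE (hDU x)).op) (g ^ n x * a))).symm

/-- The ideal sheaf cutting out the rank `r` locus. -/
def killIdealSheaf : X.IdealSheafData where
  ideal U := killIdeal F r U.1
  map_ideal_basicOpen U g := by
    refine le_antisymm (Ideal.map_le_iff_le_comap.2 fun a ha => ?_) fun b hb => ?_
    · exact (mem_killIdeal F r).2 fun T f hf =>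
        app_res_eq_zero f (X.basicOpen_le g) ((mem_killIdeal F r).1 ha T f hf)
    · letI : Algebra Γ(X, U.1) Γ(X, X.basicOpen g) :=
        (X.presheaf.map (homOfLE (X.basicOpen_le g)).op).hom.toAlgebra
      haveI : IsLocalization.Away g Γ(X, X.basicOpen g) := U.2.isLocalization_basicOpen g
      obtain ⟨⟨a, ⟨_, n, rfl⟩⟩, he⟩ := IsLocalization.surj (Submonoid.powers g) b
      change b * algebraMap _ _ (g ^ n) = algebraMap _ _ a at he
      obtain ⟨p, hp⟩ := exists_pow_mul_mem_killIdeal F r hgen U.2 g a (by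
        change algebraMap Γ(X, U.1) Γ(X, X.basicOpen g) a ∈ killIdeal F r (X.basicOpen g)
        rw [← he]
        exact Ideal.mul_mem_right _ _ hb)
      have hu : IsUnit (algebraMap Γ(X, U.1) Γ(X, X.basicOpen g) (g ^ (p + n))) :=
        IsLocalization.map_units Γ(X, X.basicOpen g)
          (⟨g ^ (p + n), p + n, rfl⟩ : Submonoid.powers g)
      refine (Ideal.mul_unit_mem_iff_mem _ hu).1 ?_
      have : b * algebraMap _ _ (g ^ (p + n)) = algebraMap Γ(X, U.1) _ (g ^ p * a) := by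
        rw [pow_add, map_mul, map_mul, ← he]; ring
      rw [this]
      exact Ideal.mem_map_of_mem _ hp

/-- The closed subscheme where the relations vanish. -/
theorem factors_iff {f : T ⟶ X} :
    (∃ g : T ⟶ (killIdealSheaf F r hgen).subscheme,
        g ≫ (killIdealSheaf F r hgen).subschemeι = f) ↔
      FlatMod.IsFinLocFreeOfRank r ((Scheme.Modules.pullback f).obj F) := by
  let J := killIdealSheaf F r hgen
  constructor
  · rintro ⟨g, rfl⟩
    refine locFree_of_local fun t => ?_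
    obtain ⟨W, m, hW, hm⟩ := mem_genLocus.1
      (show (g ≫ J.subschemeι) t ∈ genLocus F r by rw [hgen]; trivial)
    refine ⟨W, m, hW, hm, fun k hk i => ?_⟩
    have h1 : k i ∈ J.ideal W :=
      (mem_killIdeal F r).2 fun T' f' hf' => hf' W m hm k hk i
    rw [← Scheme.IdealSheafData.ker_subschemeι_app, RingHom.mem_ker] at h1
    change g.app (J.subschemeι ⁻¹ᵁ W.1) (J.subschemeι.app W.1 (k i)) = 0
    exact (congrArg _ h1).trans (map_zero _)
  · intro hf
    have hle : J.subschemeι.ker ≤ f.ker := by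
      rw [Scheme.IdealSheafData.ker_subschemeι]
      exact Scheme.IdealSheafData.le_ofIdeals_iff.2 fun U a ha =>
        (mem_killIdeal F r).1 ha T f (kills_of_locFree hf)
    exact ⟨IsClosedImmersion.lift J.subschemeι f hle, IsClosedImmersion.lift_fac _ _ _⟩

end Closed

/-- The rank `r` locus of a quasi-coherent module of finite type is a subscheme. -/
theorem exists_immersion (F : X.Modules) [F.IsQuasicoherent] (hF : CohB1.IsFT F) (r : ℕ) :
    ∃ (Z : Scheme.{u}) (i : Z ⟶ X), IsImmersion i ∧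
      (∀ (T : Scheme.{u}) (f : T ⟶ X), (∃ g : T ⟶ Z, g ≫ i = f) ↔
        FlatMod.IsFinLocFreeOfRank r ((Scheme.Modules.pullback f).obj F)) ∧
      (genLocus F r = ⊤ → IsClosedImmersion i) := by
  let V := genLocus F r
  let FV := (Scheme.Modules.pullback V.ι).obj F
  have hgen : genLocus FV r = ⊤ := by
    rw [eq_top_iff]
    intro x _
    obtain ⟨W, m, hxW, hm⟩ := mem_genLocus.1 x.2
    have hWV : W.1 ≤ V := fun y hy => mem_genLocus.2 ⟨W, m, hy, hm⟩
    have hW' : IsAffineOpen (V.ι ⁻¹ᵁ W.1) :=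
      W.2.preimage_of_isOpenImmersion V.ι (by rw [Scheme.Opens.opensRange_ι]; exact hWV)
    exact mem_genLocus.2 ⟨⟨_, hW'⟩, fun i => LimTop.unitSec V.ι F le_rfl (m i), hxW,
      span_unitSec V.ι F W.2 hW' le_rfl m hm⟩
  let J := killIdealSheaf FV r hgen
  refine ⟨J.subscheme, J.subschemeι ≫ V.ι, inferInstance, fun T f => ⟨?_, fun hf => ?_⟩,
    fun htop => ?_⟩
  · rintro ⟨g, rfl⟩
    refine isFinLocFreeOfRank_of_iso ((Scheme.Modules.pullbackComp (g ≫ J.subschemeι) V.ι).app F ≪≫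
      (Scheme.Modules.pullbackCongr (Category.assoc _ _ _)).app F) ?_
    exact (factors_iff FV r hgen).1 ⟨g, rfl⟩
  · have hrange : Set.range f ⊆ Set.range V.ι := by
      rw [Scheme.Opens.range_ι]
      rintro _ ⟨t, rfl⟩
      exact mem_genLocus_of_locFree hF hf t
    let fV := IsOpenImmersion.lift V.ι f hrange
    have hfac : fV ≫ V.ι = f := IsOpenImmersion.lift_fac _ _ _
    have h' : FlatMod.IsFinLocFreeOfRank r ((Scheme.Modules.pullback fV).obj FV) :=
      isFinLocFreeOfRank_of_iso ((Scheme.Modules.pullbackCongr hfac.symm).app F ≪≫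
        ((Scheme.Modules.pullbackComp fV V.ι).app F).symm) hf
    obtain ⟨g, hg⟩ := (factors_iff FV r hgen).2 h'
    exact ⟨g, by rw [← Category.assoc, hg, hfac]⟩
  · have : IsIso V.ι := by
      rw [show V = ⊤ from htop]
      exact inferInstanceAs (IsIso X.topIso.hom)
    infer_instance

/-- Generation by `r` sections near every point gives generated affine neighbourhoods. -/
theorem genLocus_eq_top (F : X.Modules) [F.IsQuasicoherent] (r : ℕ)
    (h : ∀ x : X, ∃ U : X.Opens, x ∈ U ∧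
      ∃ p : FlatMod.freeMod (U : Scheme.{u}) r ⟶ F.restrict U.ι, Epi p) :
    genLocus F r = ⊤ := by
  rw [eq_top_iff]
  intro x _
  obtain ⟨U, hxU, p, hp⟩ := h x
  haveI := VBLib.isQuasicoherent_freeMod (U : Scheme.{u}) r
  haveI : (F.restrict U.ι).IsQuasicoherent := Scheme.Modules.isQuasicoherent_restrictFunctor _ F
  obtain ⟨_, ⟨W, hW, rfl⟩, hxW, -⟩ := (U : Scheme.{u}).isBasis_affineOpens.exists_subset_of_mem_open
    (show (⟨x, hxU⟩ : (U : Scheme.{u})) ∈ (⊤ : (U : Scheme.{u}).Opens) from trivial) isOpen_univ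
  obtain ⟨e⟩ : Nonempty ((FlatMod.freeMod (U : Scheme.{u}) r).restrict
      (⊤ : (U : Scheme.{u}).Opens).ι ≅ FlatMod.freeMod ((⊤ : (U : Scheme.{u}).Opens) : Scheme.{u}) r) :=
    ⟨(Scheme.Modules.restrictFunctor _).mapIso (QProj.freeModIso _ r).symm ≪≫
      QProj.restrictFreeIso _ _ ≪≫ QProj.freeModIso _ r⟩
  obtain ⟨b⟩ := QProj.free_sections_of_restrict_iso _ e hW le_top
  refine mem_genLocus.2 ⟨⟨U.ι ''ᵁ W, hW.image_of_isOpenImmersion U.ι⟩,
    fun i => (show Γ(F, U.ι ''ᵁ W) from p.app W (b i)), ⟨_, hxW, rfl⟩, ?_⟩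
  rw [eq_top_iff]
  intro s _
  obtain ⟨c, hc⟩ := QCoh.app_surjective_of_epi p hW (show Γ(F.restrict U.ι, W) from s)
  rw [← hc, ← b.sum_repr c, map_sum]
  refine Submodule.sum_mem _ fun i _ => ?_
  rw [Scheme.Modules.Hom.app_smul]
  exact Submodule.smul_mem _ _ (Submodule.subset_span ⟨i, rfl⟩)

end Groth.Agent.RankLocus
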